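import Groth.Prelude.Def_EtRam
import Mathlib

/-!
# Totally ramified extensions generated by a root of a uniformizer up to a one-unit
-/

set_option autoImplicit false
set_option linter.style.haveILetI false
set_option linter.unusedSectionVars false
set_option maxHeartbeats 1000000

universe u

open Polynomial

namespace Groth.Agent.TotRam

variable {A K L : Type u} [CommRing A] [IsDomain A] [IsDiscreteValuationRing A] [Field K] [Algebra A K]
  [IsFractionRing A K] [Field L] [Algebra K L] [Algebra A L] [IsScalarTower A K L]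
  {π : A} (hπ : Irreducible π) (x : L) {q : ℕ} (bs : Module.Basis (Fin q) K L) (hbs : ∀ i, bs i = x ^ (i : ℕ))
  (hx : IsIntegral A x) {c : L} (hc : IsIntegral A c) {j : ℕ} (hj : 1 ≤ j)
  (hxq : x ^ q = algebraMap A L π * (1 + algebraMap A L π ^ j * c))
  (V : ValuationSubring L) (hV : EtRam.Dominates A (algebraMap A L) V)

include hV in
theorem mem_of_isIntegral {y : L} (hy : IsIntegral A y) : y ∈ V := by
  letI : Algebra A V := ((algebraMap A L).codRestrict V.toSubring hV.1).toAlgebra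
  haveI : IsScalarTower A V L := IsScalarTower.of_algebraMap_eq fun _ => rfl
  obtain ⟨z, hz⟩ := IsIntegrallyClosed.isIntegral_iff.1 (hy.tower_top (A := V))
  exact hz ▸ z.2

include hV in
theorem valuation_unit {u : A} (hu : IsUnit u) : V.valuation (algebraMap A L u) = 1 := by
  refine le_antisymm ((V.valuation_le_one_iff _).2 (hV.1 u)) ?_
  obtain ⟨v, hv⟩ := hu.exists_right_inv
  have h : V.valuation (algebraMap A L u) * V.valuation (algebraMap A L v) = 1 := by
    rw [← map_mul, ← map_mul, hv, map_one, map_one]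
  calc (1 : _) = V.valuation (algebraMap A L u) * V.valuation (algebraMap A L v) := h.symm
    _ ≤ V.valuation (algebraMap A L u) * 1 := by gcongr; exact (V.valuation_le_one_iff _).2 (hV.1 v)
    _ = _ := mul_one _

include hπ hc hj hxq hV in
theorem valuation_x :
    V.valuation x ^ q = V.valuation (algebraMap A L π) ∧ V.valuation (1 + algebraMap A L π ^ j * c) = 1 := by
  have hlt : V.valuation (algebraMap A L π ^ j * c) < 1 := by
    rw [map_mul, map_pow]
    refine mul_lt_one_of_nonneg_of_lt_one_left zero_le ?_ ((V.valuation_le_one_iff _).2 (mem_of_isIntegral V hV hc))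
    exact pow_lt_one₀ zero_le (hV.2 π (hπ.maximalIdeal_eq ▸ Ideal.mem_span_singleton_self π)) (by omega)
  have h1 : V.valuation (1 + algebraMap A L π ^ j * c) = 1 := by
    rw [Valuation.map_add_eq_of_lt_left _ (by rwa [map_one]), map_one]
  refine ⟨?_, h1⟩
  rw [← map_pow, hxq, map_mul, h1, mul_one]

include hπ hV in
/-- (With unit factors.) If the valuation of `x` is a `q`-th root of that of a uniformizer, then elements of the valuation ring
have integral coefficients in powers of `x`. -/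
theorem coeff_mem_unit (hxπ : V.valuation x ^ q = V.valuation (algebraMap A L π)) (r₀ : Fin q → K)
    (u₀ : Fin q → L) (hu₀ : ∀ i, r₀ i ≠ 0 → V.valuation (u₀ i) = 1)
    (hy : ∑ i, r₀ i • (u₀ i * x ^ (i : ℕ)) ∈ V) : ∀ i, ∃ a : A, algebraMap A K a = r₀ i := by
  classical
  set t := V.valuation x
  have hπ0 : algebraMap A L π ≠ 0 := by
    rw [IsScalarTower.algebraMap_apply A K L]
    exact (_root_.map_ne_zero _).2 ((map_ne_zero_iff _ (IsFractionRing.injective A K)).2 hπ.ne_zero)
  have hπlt : V.valuation (algebraMap A L π) < 1 := hV.2 π (hπ.maximalIdeal_eq ▸ Ideal.mem_span_singleton_self π)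
  intro i₀
  have hq : 0 < q := i₀.pos
  have ht0 : t ≠ 0 := fun h => hπ0 ((map_eq_zero V.valuation).1 (by rw [← hxπ, h, zero_pow hq.ne']))
  have ht1 : t < 1 := by
    by_contra h
    exact hπlt.not_ge (hxπ ▸ one_le_pow₀ (not_lt.1 h))
  -- valuation of a term
  have hterm : ∀ (r : K) (i : Fin q), r ≠ 0 → ∃ m : ℤ, V.valuation (r • x ^ (i : ℕ)) = t ^ ((q : ℤ) * m + i) ∧
      (0 ≤ m → ∃ a : A, algebraMap A K a = r) := by
    intro r i hr
    obtain ⟨a, b, hb, rfl⟩ := IsFractionRing.div_surjective (A := A) r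
    have ha0 : a ≠ 0 := fun h => hr (by rw [h, map_zero, zero_div])
    have hb0 : b ≠ 0 := nonZeroDivisors.ne_zero hb
    obtain ⟨na, ua, rfl⟩ := IsDiscreteValuationRing.eq_unit_mul_pow_irreducible ha0 hπ
    obtain ⟨nb, ub, rfl⟩ := IsDiscreteValuationRing.eq_unit_mul_pow_irreducible hb0 hπ
    refine ⟨(na : ℤ) - nb, ?_, fun hm => ?_⟩
    · rw [Algebra.smul_def, map_mul, map_pow, map_div₀, map_div₀, ← IsScalarTower.algebraMap_apply,
        ← IsScalarTower.algebraMap_apply, map_mul, map_mul, map_mul, map_mul, map_pow, map_pow, map_pow, map_pow,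
        valuation_unit V hV ua.isUnit, valuation_unit V hV ub.isUnit, one_mul, one_mul, ← hxπ, ← pow_mul, ← pow_mul,
        zpow_add₀ ht0, mul_sub, zpow_sub₀ ht0, ← Nat.cast_mul, ← Nat.cast_mul, zpow_natCast, zpow_natCast, zpow_natCast]
    · obtain ⟨d, hd⟩ := Nat.exists_eq_add_of_le (show nb ≤ na by omega)
      refine ⟨(ua : A) * ↑ub⁻¹ * π ^ d, ?_⟩
      rw [eq_div_iff ((map_ne_zero_iff _ (IsFractionRing.injective A K)).2 hb0), ← map_mul, hd, pow_add]
      refine congrArg _ ?_
      linear_combination (ua : A) * π ^ d * π ^ nb * ub.inv_mul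
  by_cases hi₀ : r₀ i₀ = 0
  · exact ⟨0, by rw [hi₀, map_zero]⟩
  let S := Finset.univ.filter fun i => r₀ i ≠ 0
  have hterm' : ∀ i ∈ S, ∃ m : ℤ, V.valuation (r₀ i • (u₀ i * x ^ (i : ℕ))) = t ^ ((q : ℤ) * m + i) ∧
      (0 ≤ m → ∃ a : A, algebraMap A K a = r₀ i) := fun i hi => by
    obtain ⟨m, hm, hm'⟩ := hterm (r₀ i) i (Finset.mem_filter.1 hi).2
    refine ⟨m, ?_, hm'⟩
    rw [← mul_smul_comm, map_mul, hu₀ i (Finset.mem_filter.1 hi).2, one_mul, hm]
  choose! m hmv hmA using hterm'
  obtain ⟨i₁, hi₁, hmin⟩ := S.exists_min_image (fun i => (q : ℤ) * m i + i) ⟨i₀, by simp [S, hi₀]⟩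
  have hsum : V.valuation (∑ i, r₀ i • (u₀ i * x ^ (i : ℕ))) = t ^ ((q : ℤ) * m i₁ + i₁) := by
    rw [← Finset.sum_subset (Finset.subset_univ S) (fun i _ hi => by
      rw [show r₀ i = 0 by simpa [S] using hi, zero_smul])]
    rw [Valuation.map_sum_eq_of_lt _ hi₁ ?_, hmv i₁ hi₁]
    intro i hi
    rw [Finset.mem_sdiff, Finset.mem_singleton] at hi
    rw [hmv i hi.1, hmv i₁ hi₁]
    refine zpow_lt_zpow_right_of_lt_one₀ (zero_lt_iff.2 ht0) ht1 ((hmin i hi.1).lt_of_ne fun he => hi.2 (Fin.ext ?_))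
    have h1 := congrArg (· % (q : ℤ)) he
    simp only [Int.mul_add_emod_self_left] at h1
    rw [Int.emod_eq_of_lt (by omega) (by omega), Int.emod_eq_of_lt (by omega) (by omega)] at h1
    omega
  refine hmA i₀ (by simp [S, hi₀]) ?_
  by_contra hm
  have h1 : t ^ ((q : ℤ) * m i₁ + i₁) ≤ 1 := hsum ▸ (V.valuation_le_one_iff _).2 hy
  have h2 := hmin i₀ (by simp [S, hi₀])
  have h3 : (q : ℤ) * m i₀ + i₀ < 0 := by
    have : (q : ℤ) * m i₀ ≤ (q : ℤ) * (-1) := mul_le_mul_of_nonneg_left (by omega) (by omega)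
    omega
  exact h1.not_gt (one_lt_zpow_of_neg₀ (zero_lt_iff.2 ht0) ht1 (h2.trans_lt h3))

include hπ hV in
/-- If the valuation of `x` is a `q`-th root of that of a uniformizer, then elements of the valuation ring
have integral coefficients in powers of `x`. -/
theorem coeff_mem (hxπ : V.valuation x ^ q = V.valuation (algebraMap A L π)) (r₀ : Fin q → K)
    (hy : ∑ i, r₀ i • x ^ (i : ℕ) ∈ V) : ∀ i, ∃ a : A, algebraMap A K a = r₀ i :=
  coeff_mem_unit hπ x V hV hxπ r₀ (fun _ => 1) (fun _ _ => map_one _) (by simpa only [one_mul] using hy)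

include hπ bs hbs hc hj hxq hV in
theorem exists_coeff {y : L} (hy : y ∈ V) : ∀ i, ∃ a : A, algebraMap A K a = bs.repr y i := by
  refine coeff_mem hπ x V hV (valuation_x hπ x hc hj hxq V hV).1 (fun i => bs.repr y i) ?_
  rw [← bs.sum_repr y] at hy
  simpa only [hbs] using hy

include hπ bs hbs hx hc hj hxq hV in
theorem mem_iff (y : L) : y ∈ V ↔ IsIntegral A y := by
  refine ⟨fun hy => ?_, mem_of_isIntegral V hV⟩
  rw [← bs.sum_repr y]
  refine IsIntegral.sum _ fun i _ => ?_
  obtain ⟨a, ha⟩ := exists_coeff hπ x bs hbs hc hj hxq V hV hy i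
  rw [hbs, ← ha, algebraMap_smul]
  exact (hx.pow _).smul a

include hπ bs hbs hx hc hj hxq in
theorem main :
    EtRam.IsTotallyRamified A (algebraMap A L) ∧
      IsIntegral A (1 + algebraMap A L π ^ j * c)⁻¹ := by
  classical
  have hinj : Function.Injective (algebraMap A L) := by
    rw [IsScalarTower.algebraMap_eq A K L]; exact (algebraMap K L).injective.comp (IsFractionRing.injective A K)
  obtain ⟨V, hV⟩ : ∃ V : ValuationSubring L, EtRam.Dominates A (algebraMap A L) V := by
    haveI : IsLocalRing (algebraMap A L).range := IsLocalRing.of_surjective' _ (algebraMap A L).rangeRestrict_surjective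
    obtain ⟨V, hle, hmax⟩ := LocalSubring.exists_le_valuationSubring (LocalSubring.mk (algebraMap A L).range)
    refine ⟨V, fun a => hle ⟨a, rfl⟩, fun a ha => ?_⟩
    let z : V := ⟨algebraMap A L a, hle ⟨a, rfl⟩⟩
    refine (V.valuation_lt_one_iff z).1 fun hu => ?_
    have h1 : IsUnit ((algebraMap A L).rangeRestrict a) :=
      hmax.map_nonunit ((algebraMap A L).rangeRestrict a) hu
    obtain ⟨w, hw⟩ := h1.exists_right_inv
    obtain ⟨⟨_, b, rfl⟩, rfl⟩ : ∃ w', w' = w := ⟨w, rfl⟩
    exact (IsLocalRing.mem_maximalIdeal a).1 ha (IsUnit.of_mul_eq_one b (hinj (by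
      rw [map_mul, map_one]; exact congrArg Subtype.val hw)))
  refine ⟨⟨⟨V, hV⟩, fun V V' h h' => SetLike.ext fun y => ?_, fun V h z => ?_⟩, ?_⟩
  · rw [mem_iff hπ x bs hbs hx hc hj hxq V h, mem_iff hπ x bs hbs hx hc hj hxq V' h']
  · obtain ⟨⟨y, hy⟩, rfl⟩ := IsLocalRing.residue_surjective z
    choose a ha using exists_coeff hπ x bs hbs hc hj hxq V h hy
    have hq : 0 < q := by
      by_contra h0
      haveI : IsEmpty (Fin q) := ⟨fun i => h0 i.pos⟩
      exact one_ne_zero (α := L) (bs.repr.injective (Subsingleton.elim _ _))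
    refine ⟨a ⟨0, hq⟩, ?_⟩
    show IsLocalRing.residue V _ = IsLocalRing.residue V _
    rw [← sub_eq_zero, ← map_sub, IsLocalRing.residue_eq_zero_iff, V.valuation_lt_one_iff]
    push_cast
    show V.valuation (algebraMap A L (a ⟨0, hq⟩) - y) < 1
    rw [Valuation.map_sub_swap]
    conv_lhs => rw [← bs.sum_repr y, ← Finset.add_sum_erase Finset.univ _ (Finset.mem_univ (⟨0, hq⟩ : Fin q))]
    rw [hbs, pow_zero, ← ha, algebraMap_smul, ← Algebra.algebraMap_eq_smul_one, add_sub_cancel_left]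
    refine Valuation.map_sum_lt _ one_ne_zero fun i hi => ?_
    rw [hbs, ← ha, algebraMap_smul, Algebra.smul_def, map_mul, map_pow]
    refine mul_lt_one_of_nonneg_of_lt_one_right ((V.valuation_le_one_iff _).2 (h.1 _)) zero_le ?_
    refine pow_lt_one₀ zero_le ?_ (fun h0 => (Finset.mem_erase.1 hi).1 (Fin.ext h0))
    by_contra hge
    exact (h.2 π (hπ.maximalIdeal_eq ▸ Ideal.mem_span_singleton_self π)).not_ge
      ((valuation_x hπ x hc hj hxq V h).1 ▸ one_le_pow₀ (not_lt.1 hge))
  · rw [← mem_iff hπ x bs hbs hx hc hj hxq V hV, ← V.valuation_le_one_iff, map_inv₀,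
      (valuation_x hπ x hc hj hxq V hV).2, inv_one]

end Groth.Agent.TotRam
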