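import Groth.Agent.TotRam.Main
import Mathlib

/-!
# Totally ramified extensions are weak solutions
-/

set_option autoImplicit false
set_option linter.style.haveILetI false
set_option linter.unusedSectionVars false
set_option maxHeartbeats 1000000

universe u

open IsLocalRing
open scoped TensorProduct

namespace Groth.Agent.TotRam

/-- A valuation subring dominating a local ring mapped injectively into a field. -/
theorem exists_dominates (A F : Type u) [CommRing A] [IsLocalRing A] [Field F] (g : A →+* F)
    (hg : Function.Injective g) : ∃ V : ValuationSubring F, EtRam.Dominates A g V := by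
  haveI : IsLocalRing g.range := IsLocalRing.of_surjective' _ g.rangeRestrict_surjective
  obtain ⟨V, hle, hmax⟩ := LocalSubring.exists_le_valuationSubring (LocalSubring.mk g.range)
  refine ⟨V, fun a => hle ⟨a, rfl⟩, fun a ha => ?_⟩
  let z : V := ⟨g a, hle ⟨a, rfl⟩⟩
  refine (V.valuation_lt_one_iff z).1 fun hu => ?_
  have h1 : IsUnit (g.rangeRestrict a) := hmax.map_nonunit (g.rangeRestrict a) hu
  obtain ⟨w, hw⟩ := h1.exists_right_inv
  obtain ⟨⟨_, b, rfl⟩, rfl⟩ : ∃ w', w' = w := ⟨w, rfl⟩
  exact (IsLocalRing.mem_maximalIdeal a).1 ha (IsUnit.of_mul_eq_one b (hg (by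
    rw [map_mul, map_one]; exact congrArg Subtype.val hw)))

variable {A K K₁ : Type u} [CommRing A] [IsDomain A] [IsDiscreteValuationRing A] [Field K] [Algebra A K]
  [IsFractionRing A K] [Field K₁] [Algebra K K₁] [FiniteDimensional K K₁] [Algebra.IsSeparable K K₁]

/-- The valuation ring of a totally ramified extension. -/
theorem structure_of_isTotallyRamified (ht : EtRam.IsTotallyRamified A ((algebraMap K K₁).comp (algebraMap A K))) :
    ∃ (V : ValuationSubring K₁), EtRam.Dominates A ((algebraMap K K₁).comp (algebraMap A K)) V ∧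
      ∀ {π : A}, Irreducible π → ∃ x u : V, IsUnit u ∧ x ∈ maximalIdeal V ∧
        (x : K₁) ^ Module.finrank K K₁ * (u : K₁) = algebraMap K K₁ (algebraMap A K π) := by
  classical
  obtain ⟨⟨V, hV⟩, huniq, hres⟩ := ht
  refine ⟨V, hV, fun {π} hπ => ?_⟩
  letI : Algebra A K₁ := ((algebraMap K K₁).comp (algebraMap A K)).toAlgebra
  haveI : IsScalarTower A K K₁ := IsScalarTower.of_algebraMap_eq fun _ => rfl
  have hinj : Function.Injective (algebraMap A K₁) := (algebraMap K K₁).injective.comp (IsFractionRing.injective A K)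
  let S := integralClosure A K₁
  haveI : Module.Finite A S := IsIntegralClosure.finite A K K₁ S
  haveI : IsDedekindDomain S := IsIntegralClosure.isDedekindDomain A K K₁ S
  haveI : IsFractionRing S K₁ := IsIntegralClosure.isFractionRing_of_finite_extension A K K₁ S
  haveI : Module.IsTorsionFree A K₁ := Module.isTorsionFree_iff_algebraMap_injective.2 hinj
  haveI : Module.IsTorsionFree A S := Module.isTorsionFree_iff_algebraMap_injective.2 fun a b h =>
    hinj (congrArg Subtype.val h)
  let m := maximalIdeal A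
  have hm0 : m ≠ ⊥ := IsDiscreteValuationRing.not_a_field A
  -- every maximal ideal is the centre of `V`
  have hint : ∀ c : S, (c : K₁) ∈ V := fun c => mem_of_isIntegral V hV c.2
  let ι : S →+* V := S.val.toRingHom.codRestrict V.toSubring hint
  let P₀ : Ideal S := (maximalIdeal V).comap ι
  haveI : P₀.IsPrime := Ideal.IsPrime.comap ι
  have hunique : ∀ P : Ideal S, P.IsMaximal → P = P₀ := by
    intro P hP
    haveI := hP
    have hinjS : Function.Injective (algebraMap S K₁) := IsFractionRing.injective S K₁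
    obtain ⟨V', hV'⟩ := exists_dominates (Localization.AtPrime P) K₁
      (IsLocalization.lift (M := P.primeCompl) (g := algebraMap S K₁) fun y =>
        IsUnit.mk0 _ ((map_ne_zero_iff _ hinjS).2 fun h => y.2 (h ▸ P.zero_mem)))
      ((IsLocalization.lift_injective_iff _).2 fun x y =>
        ⟨fun h => by rw [IsLocalization.injective (Localization.AtPrime P) P.primeCompl_le_nonZeroDivisors h],
          fun h => by rw [hinjS h]⟩)
    have hPm : P.under A = m := IsLocalRing.eq_maximalIdeal (Ideal.isMaximal_comap_of_isIntegral_of_isMaximal P)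
    have hV'A : EtRam.Dominates A ((algebraMap K K₁).comp (algebraMap A K)) V' := by
      refine ⟨fun a => ?_, fun a ha => ?_⟩
      · have h := hV'.1 (algebraMap S _ (algebraMap A S a))
        rwa [IsLocalization.lift_eq] at h
      · have h := hV'.2 (algebraMap S _ (algebraMap A S a)) (by
          rw [← Localization.AtPrime.map_eq_maximalIdeal]
          exact Ideal.mem_map_of_mem _ (show a ∈ P.under A by rw [hPm]; exact ha))
        rwa [IsLocalization.lift_eq] at h
    obtain rfl := huniq V V' hV hV'A
    refine (hP.eq_of_le (Ideal.IsPrime.ne_top inferInstance) fun c hc => ?_)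
    have h := hV'.2 (algebraMap S _ c) (by
      rw [← Localization.AtPrime.map_eq_maximalIdeal]; exact Ideal.mem_map_of_mem _ hc)
    rw [IsLocalization.lift_eq] at h
    exact (V.valuation_lt_one_iff (ι c)).2 h
  haveI : P₀.IsMaximal := by
    obtain ⟨P, hP⟩ := Ideal.exists_maximal S
    exact hunique P hP ▸ hP
  haveI : IsLocalRing S := IsLocalRing.of_unique_max_ideal ⟨P₀, inferInstance, hunique⟩
  have hP₀m : P₀.under A = m := IsLocalRing.eq_maximalIdeal (Ideal.isMaximal_comap_of_isIntegral_of_isMaximal P₀)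
  haveI : P₀.LiesOver m := ⟨hP₀m.symm⟩
  have hP0 : P₀ ≠ ⊥ := Ideal.ne_bot_of_liesOver_of_ne_bot hm0 P₀
  haveI : IsDiscreteValuationRing S :=
    { not_a_field' := by rw [← IsLocalRing.eq_maximalIdeal ‹P₀.IsMaximal›]; exact hP0
      toIsPrincipalIdealRing := by
        have h := (tfae_of_isNoetherianRing_of_isLocalRing_of_isDomain S).out 2 0
        exact h.mp ‹IsDedekindDomain S› }
  have hf : P₀.inertiaDeg A = 1 := by
    rw [Ideal.inertiaDeg_eq_of_isMaximal m P₀]
    have hb : Function.Bijective (algebraMap (A ⧸ m) (S ⧸ P₀)) := by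
      letI := Ideal.Quotient.field m
      haveI : Nontrivial (S ⧸ P₀) := Ideal.Quotient.nontrivial_iff.2 (Ideal.IsPrime.ne_top inferInstance)
      refine ⟨(algebraMap (A ⧸ m) (S ⧸ P₀)).injective, fun z => ?_⟩
      obtain ⟨c, rfl⟩ := Ideal.Quotient.mk_surjective z
      obtain ⟨a, ha⟩ := hres V hV (residue V (ι c))
      refine ⟨Ideal.Quotient.mk m a, Ideal.Quotient.eq.2 ?_⟩
      show ι (algebraMap A S a - c) ∈ maximalIdeal V
      rw [map_sub, ← residue_eq_zero_iff, map_sub, sub_eq_zero, ← ha]
      rfl
    rw [← (LinearEquiv.ofBijective (Algebra.linearMap (A ⧸ m) (S ⧸ P₀)) hb).finrank_eq, Module.finrank_self]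
  haveI : Subsingleton (m.primesOver S) := ⟨fun x y => Subtype.ext (by
    haveI := x.2.1; haveI := x.2.2; haveI := y.2.1; haveI := y.2.2
    rw [hunique x.1 (Ideal.IsMaximal.of_liesOver_isMaximal x.1 m), hunique y.1 (Ideal.IsMaximal.of_liesOver_isMaximal y.1 m)])⟩
  haveI : Fintype (m.primesOver S) := Fintype.ofSubsingleton ⟨P₀, inferInstance, inferInstance⟩
  have he : P₀.ramificationIdx A = Module.finrank K K₁ := by
    have h := Ideal.sum_ramification_inertia_eq_finrank m S
    rwa [Fintype.sum_subsingleton _ ⟨P₀, inferInstance, inferInstance⟩, hf, mul_one,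
      IsIntegralClosure.rank A K K₁ S] at h
  obtain ⟨ρ, hρ⟩ := IsDiscreteValuationRing.exists_irreducible S
  have hπ0 : algebraMap A S π ≠ 0 := (map_ne_zero_iff _ (FaithfulSMul.algebraMap_injective A S)).2 hπ.ne_zero
  obtain ⟨n, v, hv⟩ := IsDiscreteValuationRing.eq_unit_mul_pow_irreducible hπ0 hρ
  have hP₀ρ : P₀ = Ideal.span {ρ} := (IsLocalRing.eq_maximalIdeal ‹P₀.IsMaximal›).trans hρ.maximalIdeal_eq
  have hn : n = Module.finrank K K₁ := by
    rw [← he, ← Ideal.ramificationIdx'_eq_ramificationIdx m P₀ hm0]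
    symm
    have hmap : m.map (algebraMap A S) = P₀ ^ n := by
      rw [show m = Ideal.span {π} from hπ.maximalIdeal_eq, Ideal.map_span, Set.image_singleton, hv, hP₀ρ,
        Ideal.span_singleton_pow, Ideal.span_singleton_mul_left_unit v.isUnit]
    exact Ideal.ramificationIdx'_spec hmap.le fun h => by
      rw [hmap] at h
      exact (Ideal.pow_succ_lt_pow hP0 n).not_ge h
  refine ⟨ι ρ, ι v, v.isUnit.map ι, ?_, ?_⟩
  · show ρ ∈ P₀
    rw [hP₀ρ]; exact Ideal.mem_span_singleton_self ρ
  · rw [← hn, mul_comm]
    exact (congrArg Subtype.val hv).symm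

variable {B L : Type u} [CommRing B] [IsDomain B] [IsDiscreteValuationRing B] [Algebra A B]
  [IsLocalHom (algebraMap A B)] [Field L] [Algebra B L] [IsFractionRing B L] [Algebra K L] [Algebra A L]
  [IsScalarTower A K L] [IsScalarTower A B L]

/-- Totally ramified extensions are weak solutions for weakly unramified extensions. -/
theorem isField_and_isWeakSolution (hinj : Function.Injective (algebraMap A B)) (hw : EtRam.IsWeaklyUnramified A B)
    (ht : EtRam.IsTotallyRamified A ((algebraMap K K₁).comp (algebraMap A K))) :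
    IsField (L ⊗[K] K₁) ∧ EtRam.IsWeakSolution B K L K₁ := by
  classical
  obtain ⟨V, hV, hstr⟩ := structure_of_isTotallyRamified ht
  obtain ⟨π, hπ⟩ := IsDiscreteValuationRing.exists_irreducible A
  obtain ⟨x, u, hu, hxm, hxu⟩ := hstr hπ
  set q := Module.finrank K K₁
  have hπB : Irreducible (algebraMap A B π) := by
    rw [IsDiscreteValuationRing.irreducible_iff_uniformizer, ← hw, hπ.maximalIdeal_eq, Ideal.map_span,
      Set.image_singleton]
  -- the key facts in a composite field
  have key : ∀ (M : Type u) [Field M] [Algebra K M] [Algebra L M] [Algebra K₁ M] [IsScalarTower K L M]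
      [IsScalarTower K K₁ M] (W : ValuationSubring M),
      EtRam.Dominates B ((algebraMap L M).comp (algebraMap B L)) W →
      LinearIndependent L (fun i : Fin q => (algebraMap K₁ M x) ^ (i : ℕ)) ∧
      W.comap (algebraMap K₁ M) = V ∧
      ∀ r : Fin q → L, ∑ i, r i • algebraMap K₁ M x ^ (i : ℕ) ∈ W → ∀ i, ∃ b : B, algebraMap B L b = r i := by
    intro M _ _ _ _ _ _ W hW
    letI : Algebra B M := ((algebraMap L M).comp (algebraMap B L)).toAlgebra
    haveI : IsScalarTower B L M := IsScalarTower.of_algebraMap_eq fun _ => rfl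
    have hAM : ∀ a, algebraMap K₁ M (algebraMap K K₁ (algebraMap A K a)) = algebraMap B M (algebraMap A B a) :=
      fun a => by
        rw [← IsScalarTower.algebraMap_apply K K₁ M, IsScalarTower.algebraMap_apply K L M,
          ← IsScalarTower.algebraMap_apply A K L, IsScalarTower.algebraMap_apply A B L]
        rfl
    have hcomap : W.comap (algebraMap K₁ M) = V := by
      refine ht.2.1 _ _ ⟨fun a => ?_, fun a ha => ?_⟩ hV
      · show algebraMap K₁ M _ ∈ W
        rw [RingHom.comp_apply, hAM]; exact hW.1 _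
      · have h1 : algebraMap A B a ∈ maximalIdeal B := map_nonunit _ a ha
        have hmemc : ((algebraMap K K₁).comp (algebraMap A K)) a ∈ W.comap (algebraMap K₁ M) := by
          show algebraMap K₁ M _ ∈ W
          rw [RingHom.comp_apply, hAM]; exact hW.1 _
        let z : W.comap (algebraMap K₁ M) := ⟨_, hmemc⟩
        refine ((W.comap (algebraMap K₁ M)).valuation_lt_one_iff z).1 fun hu => (hW.2 _ h1).ne ?_
        refine ((congrArg W.valuation ?_).trans ((W.valuation_eq_one_iff _).1 (hu.map (EtRam.inclOfComap W (algebraMap K₁ M)))))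
        exact (hAM a).symm
    have hmem : ∀ z : V, algebraMap K₁ M z ∈ W := fun z => (SetLike.ext_iff.1 hcomap (z : K₁)).2 z.2
    have hval : W.valuation (algebraMap K₁ M x) ^ q = W.valuation (algebraMap B M (algebraMap A B π)) := by
      obtain ⟨u', hu'⟩ := hu.exists_right_inv
      have h1 : W.valuation (algebraMap K₁ M u) = 1 := by
        refine le_antisymm ((W.valuation_le_one_iff _).2 (hmem u)) ?_
        have h : W.valuation (algebraMap K₁ M u) * W.valuation (algebraMap K₁ M u') = 1 := by
          rw [← map_mul, ← map_mul, show (u : K₁) * u' = 1 from congrArg Subtype.val hu', map_one, map_one]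
        calc (1 : _) = _ := h.symm
          _ ≤ W.valuation (algebraMap K₁ M u) * 1 := by gcongr; exact (W.valuation_le_one_iff _).2 (hmem u')
          _ = _ := mul_one _
      rw [← hAM, ← hxu, map_mul, map_mul, h1, mul_one, map_pow, map_pow]
    have hco := coeff_mem (A := B) (K := L) hπB (algebraMap K₁ M x) W hW hval
    refine ⟨Fintype.linearIndependent_iff.2 fun r hr i => ?_, hcomap, hco⟩
    by_contra hri
    obtain ⟨b, hb⟩ := hco (fun l => (r i * algebraMap B L (algebraMap A B π))⁻¹ * r l) (by
      rw [show (∑ l, ((r i * algebraMap B L (algebraMap A B π))⁻¹ * r l) • algebraMap K₁ M x ^ (l : ℕ)) =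
        (r i * algebraMap B L (algebraMap A B π))⁻¹ • ∑ l, r l • algebraMap K₁ M x ^ (l : ℕ) by
          rw [Finset.smul_sum]; simp [mul_smul], hr, smul_zero]
      exact W.zero_mem) i
    have hπ0 : algebraMap B L (algebraMap A B π) ≠ 0 :=
      (map_ne_zero_iff _ (IsFractionRing.injective B L)).2 hπB.ne_zero
    refine hπB.not_isUnit (IsUnit.of_mul_eq_one b (IsFractionRing.injective B L ?_))
    rw [map_mul, hb, map_one]
    field_simp
  refine ⟨?_, ?_⟩
  · -- the tensor product is a field
    haveI : Nontrivial (L ⊗[K] K₁) :=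
      (Algebra.TensorProduct.includeRight_injective (R := K) (A := L) (B := K₁) (algebraMap K L).injective).nontrivial
    obtain ⟨P, hP⟩ := Ideal.exists_maximal (L ⊗[K] K₁)
    haveI := hP
    let M := (L ⊗[K] K₁) ⧸ P
    letI : Field M := Ideal.Quotient.field P
    letI : Algebra K₁ M := ((Ideal.Quotient.mk P).comp
      (Algebra.TensorProduct.includeRight : K₁ →ₐ[K] L ⊗[K] K₁).toRingHom).toAlgebra
    haveI : IsScalarTower K K₁ M := IsScalarTower.of_algebraMap_eq fun a =>
      (congrArg (Ideal.Quotient.mk P) ((Algebra.TensorProduct.includeRight : K₁ →ₐ[K] L ⊗[K] K₁).commutes a)).symm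
    obtain ⟨W, hW⟩ := exists_dominates B M ((algebraMap L M).comp (algebraMap B L))
      ((algebraMap L M).injective.comp (IsFractionRing.injective B L))
    obtain ⟨hli, -, -⟩ := key M W hW
    have hdim : Module.finrank L M = Module.finrank L (L ⊗[K] K₁) := by
      refine le_antisymm ((Ideal.Quotient.mkₐ L P).toLinearMap.finrank_le_finrank_of_surjective ?_) ?_
      · exact Ideal.Quotient.mk_surjective
      · rw [Module.finrank_baseChange]
        simpa using hli.fintype_card_le_finrank
    have hbij : Function.Bijective (Ideal.Quotient.mkₐ L P) :=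
      ⟨(LinearMap.injective_iff_surjective_of_finrank_eq_finrank hdim.symm
        (f := (Ideal.Quotient.mkₐ L P).toLinearMap)).2 Ideal.Quotient.mk_surjective, Ideal.Quotient.mk_surjective⟩
    exact (AlgEquiv.ofBijective _ hbij).toMulEquiv.isField (Field.toIsField M)
  · intro M _ _ _ _ _ _ hgen W hW
    obtain ⟨hli, hcomap, hco⟩ := key M W hW
    letI : Algebra (W.comap (algebraMap K₁ M)) W := (EtRam.inclOfComap W (algebraMap K₁ M)).toAlgebra
    -- spanning
    have hspan : ⊤ ≤ Submodule.span L (Set.range fun i : Fin q => (algebraMap K₁ M x) ^ (i : ℕ)) := by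
      let φ : L ⊗[K] K₁ →ₐ[L] M := Algebra.TensorProduct.lift (Algebra.ofId L M) (IsScalarTower.toAlgHom K K₁ M)
        fun _ _ => mul_comm _ _
      have hs : Function.Surjective φ := by
        rw [← AlgHom.range_eq_top, eq_top_iff, ← hgen, Algebra.adjoin_le_iff]
        rintro _ ⟨z, rfl⟩
        exact ⟨1 ⊗ₜ z, (Algebra.TensorProduct.lift_tmul _ _ _ _ _).trans (by rw [map_one, one_mul]; rfl)⟩
      haveI : FiniteDimensional L M := Module.Finite.of_surjective φ.toLinearMap hs
      have hle : Module.finrank L M ≤ q := by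
        have := φ.toLinearMap.finrank_le_finrank_of_surjective hs
        rwa [Module.finrank_baseChange] at this
      exact (hli.span_eq_top_of_card_eq_finrank' (by
        rw [Fintype.card_fin]; exact le_antisymm (by simpa using hli.fintype_card_le_finrank) hle)).ge
    show (maximalIdeal _).map (algebraMap (W.comap (algebraMap K₁ M)) W) = maximalIdeal W
    refine le_antisymm (Ideal.map_le_iff_le_comap.2 fun z hz =>
      map_nonunit (EtRam.inclOfComap W (algebraMap K₁ M)) z hz) fun y hy => ?_
    let U := W.comap (algebraMap K₁ M)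
    let J : Ideal W := (maximalIdeal U).map (algebraMap U W)
    have hmemU : ∀ z : V, (z : K₁) ∈ U := fun z => (SetLike.ext_iff.1 hcomap (z : K₁)).2 z.2
    have hxJ : ∀ (z : V), z ∈ maximalIdeal V → EtRam.inclOfComap W (algebraMap K₁ M) ⟨z, hmemU z⟩ ∈ J := fun z hz =>
      Ideal.mem_map_of_mem _ ((IsLocalRing.mem_maximalIdeal _).2 fun hU => (IsLocalRing.mem_maximalIdeal z).1 hz (by
        obtain ⟨w, hw⟩ := hU.exists_right_inv
        exact IsUnit.of_mul_eq_one ⟨(w : K₁), (SetLike.ext_iff.1 hcomap (w : K₁)).1 w.2⟩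
          (Subtype.ext (congrArg Subtype.val hw : _))))
    obtain ⟨r, hr⟩ := (Submodule.mem_span_range_iff_exists_fun L).1 (hspan (Submodule.mem_top (x := (y : M))))
    choose b hb using hco r (by rw [hr]; exact y.2)
    have hbW : ∀ i, algebraMap L M (algebraMap B L (b i)) ∈ W := fun i => hW.1 _
    have hxW : algebraMap K₁ M x ∈ W := hmemU x
    let bW : Fin q → W := fun i => ⟨_, hbW i⟩
    let xW : W := ⟨_, hxW⟩
    have hysum : y = ∑ i, bW i * xW ^ (i : ℕ) := Subtype.ext (by
      rw [← hr]
      push_cast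
      refine Finset.sum_congr rfl fun i _ => ?_
      rw [← hb, Algebra.smul_def])
    have hxmem : xW ∈ J := hxJ x hxm
    have hq : 0 < q := Module.finrank_pos
    have hrest : ∑ i ∈ Finset.univ.erase (⟨0, hq⟩ : Fin q), bW i * xW ^ (i : ℕ) ∈ J :=
      Ideal.sum_mem _ fun i hi => J.mul_mem_left _ (Ideal.pow_mem_of_mem _ hxmem _
        (Nat.pos_of_ne_zero fun h0 => (Finset.mem_erase.1 hi).1 (Fin.ext h0)))
    rw [← Finset.add_sum_erase _ _ (Finset.mem_univ (⟨0, hq⟩ : Fin q))] at hysum
    simp only [pow_zero, mul_one] at hysum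
    have hJle : J ≤ maximalIdeal W := Ideal.map_le_iff_le_comap.2 fun z hz =>
      map_nonunit (EtRam.inclOfComap W (algebraMap K₁ M)) z hz
    have hb0 : b ⟨0, hq⟩ ∈ maximalIdeal B := by
      by_contra hnu
      have h1 : bW ⟨0, hq⟩ ∈ maximalIdeal W := by
        have h2 : y - ∑ i ∈ Finset.univ.erase (⟨0, hq⟩ : Fin q), bW i * xW ^ (i : ℕ) ∈ maximalIdeal W :=
          sub_mem hy (hJle hrest)
        rwa [hysum, add_sub_cancel_right] at h2
      exact (IsLocalRing.mem_maximalIdeal _).1 h1 ((notMem_maximalIdeal.1 hnu).map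
        (((algebraMap L M).comp (algebraMap B L)).codRestrict W.toSubring hW.1))
    rw [hπB.maximalIdeal_eq, Ideal.mem_span_singleton'] at hb0
    obtain ⟨b', hb'⟩ := hb0
    show y ∈ J
    rw [hysum]
    refine J.add_mem ?_ hrest
    have hπ' : bW ⟨0, hq⟩ = (⟨_, hW.1 b'⟩ : W) * (EtRam.inclOfComap W (algebraMap K₁ M) ⟨u, hmemU u⟩ * xW ^ q) := by
      refine Subtype.ext ?_
      show algebraMap L M (algebraMap B L (b ⟨0, hq⟩)) =
        algebraMap L M (algebraMap B L b') * (algebraMap K₁ M u * algebraMap K₁ M x ^ q)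
      rw [← hb', map_mul, map_mul, mul_comm (algebraMap K₁ M u), ← map_pow, ← map_mul (algebraMap K₁ M), hxu,
        ← IsScalarTower.algebraMap_apply K K₁ M, IsScalarTower.algebraMap_apply K L M,
        ← IsScalarTower.algebraMap_apply A K L, IsScalarTower.algebraMap_apply A B L]
    rw [hπ']
    exact J.mul_mem_left _ (J.mul_mem_left _ (Ideal.pow_mem_of_mem _ hxmem q hq))

end Groth.Agent.TotRam
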