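import Groth.Agent.TotRam.PInsep
import Groth.Agent.TotRam.Solution
import Groth.Agent.S7157
import Mathlib

/-!
# Weak solutions for purely inseparable steps of degree `p`
-/

set_option autoImplicit false
set_option linter.style.haveILetI false
set_option linter.unusedSectionVars false
set_option maxHeartbeats 2000000

universe u

open IsLocalRing Polynomial
open scoped TensorProduct

namespace Groth.Agent.TotRam

/-- A purely inseparable extension of prime degree has exponent one. -/
theorem pow_mem_range_of_finrank_prime (L M : Type u) [Field L] [Field M] [Algebra L M] [IsPurelyInseparable L M]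
    {p : ℕ} (hp : p.Prime) (hdeg : Module.finrank L M = p) :
    CharP L p ∧ ∀ x : M, x ^ p ∈ (algebraMap L M).range := by
  haveI : FiniteDimensional L M := FiniteDimensional.of_finrank_pos (by rw [hdeg]; exact hp.pos)
  obtain ⟨q, hq⟩ := ExpChar.exists L
  have key : ∀ x : M, x ∉ (algebraMap L M).range → q = p ∧ x ^ p ∈ (algebraMap L M).range := by
    intro x hx
    obtain ⟨n, y, hy⟩ := IsPurelyInseparable.minpoly_eq_X_pow_sub_C L q x
    have hd : (minpoly L x).natDegree ∣ p := hdeg ▸ minpoly.degree_dvd (IsIntegral.of_finite L x)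
    rw [hy, natDegree_X_pow_sub_C] at hd
    rcases (Nat.dvd_prime hp).1 hd with h1 | h1
    · refine absurd (minpoly.mem_range_of_degree_eq_one L x ?_) hx
      rw [hy, h1, degree_X_pow_sub_C Nat.one_pos]; rfl
    · have hxp : x ^ p ∈ (algebraMap L M).range := by
        refine ⟨y, ?_⟩
        have := minpoly.aeval L x
        rw [hy, map_sub, map_pow, aeval_X, aeval_C, sub_eq_zero, h1] at this
        exact this.symm
      refine ⟨?_, hxp⟩
      have hn : n ≠ 0 := fun h => hp.one_lt.ne' (by rw [← h1, h, pow_zero])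
      rcases hq with _ | hqp
      · rw [one_pow] at h1; exact absurd h1.symm hp.one_lt.ne'
      · exact ((Nat.prime_dvd_prime_iff_eq (by assumption) hp).1 (h1 ▸ dvd_pow_self q hn))
  obtain ⟨x, hx⟩ : ∃ x : M, x ∉ (algebraMap L M).range := by
    by_contra h
    push Not at h
    have h1 : Module.finrank L L = Module.finrank L M := LinearEquiv.finrank_eq
      (LinearEquiv.ofBijective (Algebra.linearMap L M) ⟨(algebraMap L M).injective, h⟩)
    rw [Module.finrank_self, hdeg] at h1
    exact hp.one_lt.ne' h1.symm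
  refine ⟨?_, fun z => ?_⟩
  · obtain ⟨rfl, -⟩ := key x hx
    rcases hq with _ | _
    · exact absurd rfl hp.one_lt.ne
    · assumption
  · by_cases hz : z ∈ (algebraMap L M).range
    · exact pow_mem hz p
    · exact (key z hz).2

variable (p : ℕ) (hp : p.Prime) (A B C K L M : Type u) [CommRing A] [IsDomain A] [IsDiscreteValuationRing A]
  [CommRing B] [IsDomain B] [IsDiscreteValuationRing B] [CommRing C] [IsDomain C] [IsDiscreteValuationRing C]
  [Algebra A B] [Algebra B C] [Algebra A C] [IsScalarTower A B C]
  (hAB : Function.Injective (algebraMap A B)) (hBC : Function.Injective (algebraMap B C))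
  [IsLocalHom (algebraMap A B)] [IsLocalHom (algebraMap B C)] [Field K] [Field L] [Field M]
  [Algebra A K] [IsFractionRing A K] [Algebra B L] [IsFractionRing B L] [Algebra C M] [IsFractionRing C M]
  [Algebra K L] [Algebra L M] [Algebra K M] [IsScalarTower K L M] [Algebra A L] [IsScalarTower A K L]
  [IsScalarTower A B L] [Algebra B M] [IsScalarTower B L M] [IsScalarTower B C M] [Algebra A M]
  [IsScalarTower A K M] [IsScalarTower A C M] (π : A) (hπ : IsLocalRing.maximalIdeal A = Ideal.span {π})
  (hB : CAlg.IsNagata B) (hw : EtRam.IsWeaklyUnramified A B) [IsPurelyInseparable L M]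
  (hdeg : Module.finrank L M = p)

include hp hAB hBC hπ hB hw hdeg in
theorem trichotomy : EtRam.IsWeaklyUnramified A C ∨ (∃ c : C, c ^ p = algebraMap A C π ∧ Algebra.adjoin B {c} = ⊤) ∨
    ∃ (K₁ : Type u) (_ : Field K₁) (_ : Algebra K K₁), Module.finrank K K₁ = p ∧ Algebra.IsSeparable K K₁ ∧
      EtRam.IsTotallyRamified A ((algebraMap K K₁).comp (algebraMap A K)) ∧ IsField (L ⊗[K] K₁) ∧
      IsField (M ⊗[K] K₁) ∧ EtRam.IsWeakSolution B K L K₁ ∧ EtRam.IsWeakSolution C K M K₁ := by
  classical
  obtain ⟨hcharL, hpowM⟩ := pow_mem_range_of_finrank_prime L M hp hdeg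
  haveI := hcharL
  haveI := Fact.mk hp
  haveI : CharP M p := charP_of_injective_algebraMap (algebraMap L M).injective p
  haveI : CharP B p := RingHom.charP (algebraMap B L) (IsFractionRing.injective B L) p
  haveI : FiniteDimensional L M := FiniteDimensional.of_finrank_pos (by rw [hdeg]; exact hp.pos)
  have hinjCM : Function.Injective (algebraMap C M) := IsFractionRing.injective C M
  have hinjBM : Function.Injective (algebraMap B M) := by
    rw [IsScalarTower.algebraMap_eq B C M]; exact hinjCM.comp hBC
  have hπA : Irreducible π := (IsDiscreteValuationRing.irreducible_iff_uniformizer π).2 hπ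
  let πB : B := algebraMap A B π
  have hπB : Irreducible πB := by
    rw [IsDiscreteValuationRing.irreducible_iff_uniformizer, ← hw, hπ, Ideal.map_span, Set.image_singleton]
  -- `p`-th powers of elements of `C` lie in `B`
  have hpow : ∀ c : C, ∃ b : B, algebraMap B C b = c ^ p := by
    intro c
    obtain ⟨l, hl⟩ := hpowM (algebraMap C M c)
    rcases ValuationRing.isInteger_or_isInteger B l with ⟨b, hb⟩ | ⟨b, hb⟩
    · refine ⟨b, hinjCM ?_⟩
      rw [← IsScalarTower.algebraMap_apply, IsScalarTower.algebraMap_apply B L M, hb, hl, map_pow]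
    · rcases eq_or_ne l 0 with rfl | hl0
      · refine ⟨0, hinjCM ?_⟩
        rw [map_zero, map_zero, map_pow, ← hl, map_zero]
      have h1 : c ^ p * algebraMap B C b = 1 := hinjCM (by
        rw [map_mul, map_pow, ← hl, ← IsScalarTower.algebraMap_apply, IsScalarTower.algebraMap_apply B L M, hb,
          ← map_mul, mul_inv_cancel₀ hl0, map_one, map_one])
      obtain ⟨u, hu⟩ := (isUnit_map_iff (algebraMap B C) b).1 (IsUnit.of_mul_eq_one_right _ h1)
      refine ⟨↑u⁻¹, ?_⟩
      calc algebraMap B C ↑u⁻¹ = (c ^ p * algebraMap B C b) * algebraMap B C ↑u⁻¹ := by rw [h1, one_mul]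
        _ = c ^ p := by rw [mul_assoc, ← map_mul, ← hu, Units.mul_inv, map_one, mul_one]
  -- the ramification index
  obtain ⟨ρ, hρ⟩ := IsDiscreteValuationRing.exists_irreducible C
  obtain ⟨b₀, hb₀⟩ := hpow ρ
  have hb₀0 : b₀ ≠ 0 := fun h => pow_ne_zero p hρ.ne_zero (by rw [← hb₀, h, map_zero])
  obtain ⟨k, u, rfl⟩ := IsDiscreteValuationRing.eq_unit_mul_pow_irreducible hb₀0 hπB
  obtain ⟨e, v, hv⟩ := IsDiscreteValuationRing.eq_unit_mul_pow_irreducible
    ((map_ne_zero_iff _ hBC).2 hπB.ne_zero) hρ
  have hek : p = e * k := by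
    refine IsDiscreteValuationRing.unit_mul_pow_congr_pow hρ hρ 1 (Units.map (algebraMap B C : B →* C) u * v ^ k) p (e * k) ?_
    rw [Units.val_one, one_mul, ← hb₀, map_mul, map_pow, hv, mul_pow, ← pow_mul]
    push_cast
    rw [mul_assoc]
    rfl
  rcases (Nat.dvd_prime hp).1 (hek ▸ Dvd.intro k rfl : e ∣ p) with he | he
  · left
    show (maximalIdeal A).map (algebraMap A C) = maximalIdeal C
    rw [hπ, Ideal.map_span, Set.image_singleton, IsScalarTower.algebraMap_apply A B C, hρ.maximalIdeal_eq]
    show Ideal.span {algebraMap B C πB} = _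
    rw [hv, he, pow_one, Ideal.span_singleton_mul_left_unit v.isUnit]
  right
  have hk : k = 1 := by rw [he] at hek; exact (Nat.eq_of_mul_eq_mul_left hp.pos (by rw [mul_one]; exact hek.symm))
  subst hk
  rw [pow_one] at hb₀
  let ρM : M := algebraMap C M ρ
  have hρM : ρM ^ p = algebraMap B M (πB * u) := by
    rw [← map_pow, ← hb₀, ← IsScalarTower.algebraMap_apply, mul_comm]
  by_cases hz : ∃ z : M, z ^ p = algebraMap B M πB
  · left
    obtain ⟨z, hz⟩ := hz
    obtain ⟨c, hc⟩ := IsIntegrallyClosed.exists_algebraMap_eq_of_isIntegral_pow (R := C) (x := z) hp.pos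
      (by rw [hz, IsScalarTower.algebraMap_apply B C M]; exact isIntegral_algebraMap)
    subst hc
    have hcp : c ^ p = algebraMap A C π := hinjCM (by
      rw [map_pow, hz, IsScalarTower.algebraMap_apply A B C, ← IsScalarTower.algebraMap_apply B C M])
    refine ⟨c, hcp, ?_⟩
    let z : M := algebraMap C M c
    have hno : ∀ l : L, l ^ p ≠ algebraMap B L πB := by
      intro l hl
      obtain ⟨b, hb⟩ := IsIntegrallyClosed.exists_algebraMap_eq_of_isIntegral_pow (R := B) (x := l) hp.pos
        (by rw [hl]; exact isIntegral_algebraMap)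
      subst hb
      rw [← map_pow] at hl
      refine hπB.not_isUnit ?_
      rw [← IsFractionRing.injective B L hl] at hπB ⊢
      exact absurd hπB (not_irreducible_pow hp.one_lt.ne')
    have hmin : minpoly L z = X ^ p - Polynomial.C (algebraMap B L πB) :=
      (minpoly.eq_of_irreducible_of_monic (X_pow_sub_C_irreducible_of_prime hp hno)
        (by simp only [map_sub, map_pow, aeval_X, aeval_C, z, hz, ← IsScalarTower.algebraMap_apply, sub_self])
        (monic_X_pow_sub_C _ hp.ne_zero)).symm
    have hli : LinearIndependent L fun i : Fin p => z ^ (i : ℕ) := by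
      have h := linearIndependent_pow (K := L) z
      rw [hmin, natDegree_X_pow_sub_C] at h
      exact h
    haveI : Nonempty (Fin p) := ⟨⟨0, hp.pos⟩⟩
    have hspan := hli.span_eq_top_of_card_eq_finrank (by rw [Fintype.card_fin, hdeg])
    obtain ⟨W, hW⟩ := exists_dominates C M (algebraMap C M) hinjCM
    have hWB : EtRam.Dominates B (algebraMap B M) W := by
      refine ⟨fun b => ?_, fun b hb => ?_⟩ <;> rw [IsScalarTower.algebraMap_apply B C M]
      · exact hW.1 _
      · exact hW.2 _ (map_nonunit _ b hb)
    have hzπ : W.valuation z ^ p = W.valuation (algebraMap B M πB) := by rw [← map_pow, hz]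
    refine eq_top_iff.2 fun y _ => ?_
    obtain ⟨r, hr⟩ := (Submodule.mem_span_range_iff_exists_fun L).1 (hspan.ge (Submodule.mem_top (x := algebraMap C M y)))
    choose bc hbc using coeff_mem (A := B) (K := L) hπB z W hWB hzπ r (hr ▸ hW.1 y)
    have hy : y = ∑ i, algebraMap B C (bc i) * c ^ (i : ℕ) := hinjCM (by
      rw [← hr, map_sum]
      refine Finset.sum_congr rfl fun i _ => ?_
      rw [map_mul, map_pow, ← IsScalarTower.algebraMap_apply, IsScalarTower.algebraMap_apply B L M, hbc,
        Algebra.smul_def])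
    rw [hy]
    exact Subalgebra.sum_mem _ fun i _ => Subalgebra.mul_mem _ (Subalgebra.algebraMap_mem _ _)
      (Subalgebra.pow_mem _ (Algebra.self_mem_adjoin_singleton B c) _)
  right
  push Not at hz
  have hρL : ρM ∉ (algebraMap L M).range := by
    rintro ⟨l, hl⟩
    have hl' : l ^ p = algebraMap B L (πB * u) := (algebraMap L M).injective (by
      rw [map_pow, hl, hρM, ← IsScalarTower.algebraMap_apply])
    obtain ⟨b, hb⟩ := IsIntegrallyClosed.exists_algebraMap_eq_of_isIntegral_pow (R := B) (x := l) hp.pos
      (by rw [hl']; exact isIntegral_algebraMap)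
    subst hb
    rw [← map_pow] at hl'
    have h := (irreducible_mul_units u).2 hπB
    rw [← IsFractionRing.injective B L hl'] at h
    exact not_irreducible_pow hp.one_lt.ne' h
  obtain ⟨m, c, d, hbd, hd⟩ := exists_approx hπB hp (u : B)
    (exists_bound hp hB hπB (u : B) ρM hρM hρL hz)
  haveI : CharP (ResidueField A) p := by
    refine (CharP.charP_iff_prime_eq_zero hp).2 ?_
    rw [← map_natCast (residue A), show (p : A) = 0 from hAB (by rw [map_natCast, map_zero]; exact CharP.cast_eq_zero B p),
      map_zero]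
  obtain ⟨K₁, _, _, _, _, hdK, hsep, htr, x₁, β, -, hx₁, hβ, -, hxb, -⟩ :=
    S7157.result p hp A K π hπ (m + 2) (by omega) 1
  rw [pow_one] at hdK hxb
  haveI : FiniteDimensional K K₁ := FiniteDimensional.of_finrank_pos (by rw [hdK]; exact hp.pos)
  haveI := hsep
  have htr' : EtRam.IsTotallyRamified A ((algebraMap K K₁).comp (algebraMap A K)) := by
    rwa [← IsScalarTower.algebraMap_eq]
  obtain ⟨hfB, hsB⟩ := isField_and_isWeakSolution (L := L) hAB hw htr'
  -- the facts in a composite
  have key : ∀ (N : Type u) [Field N] [Algebra K N] [Algebra L N] [Algebra B N] [IsScalarTower B L N]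
      [Algebra M N] [Algebra K₁ N] [IsScalarTower K L N] [IsScalarTower L M N] [IsScalarTower K K₁ N]
      (W : ValuationSubring N), EtRam.Dominates B (algebraMap B N) W →
      ∃ x s : N, x = algebraMap K₁ N x₁ ∧ W.valuation x ^ p = W.valuation (algebraMap B N πB) ∧
        W.valuation (s ^ p - algebraMap B N d) < 1 := by
    intro N _ _ _ _ _ _ _ _ _ _ W hW
    haveI : CharP N p := charP_of_injective_algebraMap (algebraMap M N).injective p
    haveI : IsScalarTower B M N := IsScalarTower.of_algebraMap_eq fun b => by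
      rw [IsScalarTower.algebraMap_apply B L N, IsScalarTower.algebraMap_apply L M N, ← IsScalarTower.algebraMap_apply B L M]
    letI : Algebra A N := ((algebraMap B N).comp (algebraMap A B)).toAlgebra
    haveI : IsScalarTower A K₁ N := IsScalarTower.of_algebraMap_eq fun a => by
      show algebraMap B N (algebraMap A B a) = _
      rw [IsScalarTower.algebraMap_apply A K K₁, ← IsScalarTower.algebraMap_apply K K₁ N,
        IsScalarTower.algebraMap_apply K L N, ← IsScalarTower.algebraMap_apply A K L,
        IsScalarTower.algebraMap_apply A B L, ← IsScalarTower.algebraMap_apply B L N]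
    haveI : IsScalarTower A B N := IsScalarTower.of_algebraMap_eq fun _ => rfl
    let P : N := algebraMap B N πB
    let b' : N := algebraMap K₁ N β
    let x : N := algebraMap K₁ N x₁
    let w : N := 1 + P ^ (m + 1) * b'
    have hb' : b' ∈ W := mem_of_isIntegral W hW
      ((hβ.map (IsScalarTower.toAlgHom A K₁ N)).tower_top (A := B))
    have hPlt : W.valuation P < 1 := hW.2 _ (hπB.maximalIdeal_eq ▸ Ideal.mem_span_singleton_self πB)
    have hwlt : W.valuation (P ^ (m + 1) * b') < 1 := by
      rw [map_mul, map_pow]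
      exact mul_lt_one_of_nonneg_of_lt_one_left zero_le (pow_lt_one₀ zero_le hPlt (by omega))
        ((W.valuation_le_one_iff _).2 hb')
    have hwv : W.valuation w = 1 := by rw [Valuation.map_add_eq_of_lt_left _ (by rwa [map_one]), map_one]
    have hw0 : w ≠ 0 := fun h => by simp [h] at hwv
    have hP0 : P ≠ 0 := (map_ne_zero_iff _ (by
      rw [IsScalarTower.algebraMap_eq B L N]
      exact (algebraMap L N).injective.comp (IsFractionRing.injective B L))).2 hπB.ne_zero
    have hxp : x ^ p = P * w := by
      show (algebraMap K₁ N x₁) ^ p = _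
      rw [← map_pow, hxb, map_add, map_mul, map_pow, ← IsScalarTower.algebraMap_apply A K₁ N,
        IsScalarTower.algebraMap_apply A B N]
      simp only [P, w, b', πB]
      ring
    have hxv : W.valuation x ^ p = W.valuation P := by rw [← map_pow, hxp, map_mul, hwv, mul_one]
    have hx0 : x ≠ 0 := fun h => mul_ne_zero hP0 hw0 (by rw [← hxp, h, zero_pow hp.ne_zero])
    let t : N := algebraMap M N ρM / x
    have ht : t ^ p = algebraMap B N u / w := by
      rw [div_pow, hxp, ← map_pow, hρM, ← IsScalarTower.algebraMap_apply, map_mul, mul_div_mul_left _ _ hP0]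
    let s : N := (t - ∑ i, algebraMap B N (c i) * x ^ (i : ℕ)) / x ^ m
    refine ⟨x, s, rfl, hxv, ?_⟩
    let G : ℕ → N := fun i => ∑ l ∈ Finset.range i, w ^ l
    have hG : ∀ i, w ^ i = 1 + P ^ (m + 1) * b' * G i := fun i => by
      have h1 := mul_geom_sum w i
      simp only [G]
      linear_combination -h1
    have hwW : w ∈ W := (W.valuation_le_one_iff w).1 hwv.le
    have hGW : ∀ i, G i ∈ W := fun i => sum_mem fun l _ => pow_mem hwW l
    let Z : N := ∑ i : Fin p, P ^ (i : ℕ) * algebraMap B N (c i) ^ p * G ((i : ℕ) + 1)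
    let T : N := b' * Z + algebraMap B N d * P ^ m * b' * G (m + 1)
    have hTW : T ∈ W := by
      refine add_mem (mul_mem hb' (sum_mem fun i _ => mul_mem (mul_mem (pow_mem (hW.1 _) _) (pow_mem (hW.1 _) _)) (hGW _))) ?_
      exact mul_mem (mul_mem (mul_mem (hW.1 _) (pow_mem (hW.1 _) _)) hb') (hGW _)
    have hsp : s ^ p - algebraMap B N d = -(P * T) / w ^ (m + 1) := by
      have h1 : (t - ∑ i, algebraMap B N (c i) * x ^ (i : ℕ)) ^ p =
          algebraMap B N u / w - ∑ i : Fin p, P ^ (i : ℕ) * w ^ (i : ℕ) * algebraMap B N (c i) ^ p := by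
        rw [sub_pow_char, sum_pow_char, ht]
        congr 1
        refine Finset.sum_congr rfl fun i _ => ?_
        rw [mul_pow, ← pow_mul, mul_comm (i : ℕ), pow_mul, hxp, mul_pow]
        ring
      have hu : algebraMap B N u =
          (∑ i : Fin p, P ^ (i : ℕ) * algebraMap B N (c i) ^ p) + P ^ m * algebraMap B N d := by
        rw [hbd]
        simp [P]
      have h2 : w * (algebraMap B N u / w - ∑ i : Fin p, P ^ (i : ℕ) * w ^ (i : ℕ) * algebraMap B N (c i) ^ p) =
          P ^ m * algebraMap B N d - P ^ (m + 1) * b' * Z := by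
        rw [mul_sub, mul_div_cancel₀ _ hw0, hu, Finset.mul_sum, add_sub_right_comm, ← Finset.sum_sub_distrib]
        simp only [Z, Finset.mul_sum]
        rw [add_comm, sub_eq_add_neg, ← Finset.sum_neg_distrib]
        congr 1
        refine Finset.sum_congr rfl fun i _ => ?_
        linear_combination (-(P ^ (i : ℕ) * algebraMap B N (c i) ^ p)) * hG ((i : ℕ) + 1)
      have h3 : s ^ p = (P ^ m * algebraMap B N d - P ^ (m + 1) * b' * Z) / (P ^ m * w ^ (m + 1)) := by
        rw [div_pow, ← pow_mul, mul_comm m p, pow_mul, hxp, mul_pow, h1, ← h2, pow_succ']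
        field_simp
      rw [h3]
      field_simp
      simp only [T]
      linear_combination (-(algebraMap B N d) * P ^ m) * hG (m + 1)
    rw [hsp, map_div₀, Valuation.map_neg, map_pow, hwv, one_pow, div_one, map_mul]
    exact mul_lt_one_of_nonneg_of_lt_one_left zero_le hPlt ((W.valuation_le_one_iff _).2 hTW)
  refine ⟨K₁, inferInstance, inferInstance, hdK, hsep, htr', hfB, ?_, hsB, ?_⟩
  · -- the tensor product is a field
    haveI : Nontrivial (M ⊗[K] K₁) :=
      (Algebra.TensorProduct.includeRight_injective (R := K) (A := M) (B := K₁) (algebraMap K M).injective).nontrivial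
    obtain ⟨P, hP⟩ := Ideal.exists_maximal (M ⊗[K] K₁)
    haveI := hP
    let N := (M ⊗[K] K₁) ⧸ P
    letI : Field N := Ideal.Quotient.field P
    letI : Algebra K₁ N := ((Ideal.Quotient.mk P).comp
      (Algebra.TensorProduct.includeRight : K₁ →ₐ[K] M ⊗[K] K₁).toRingHom).toAlgebra
    haveI : IsScalarTower K K₁ N := IsScalarTower.of_algebraMap_eq fun a =>
      (congrArg (Ideal.Quotient.mk P) ((Algebra.TensorProduct.includeRight : K₁ →ₐ[K] M ⊗[K] K₁).commutes a)).symm
    haveI : IsScalarTower B L N := inferInstance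
    haveI : IsScalarTower L M N := inferInstance
    haveI : IsScalarTower K L N := IsScalarTower.of_algebraMap_eq fun a => by
      rw [IsScalarTower.algebraMap_apply L M N, ← IsScalarTower.algebraMap_apply K L M]; rfl
    obtain ⟨W, hW⟩ := exists_dominates B N (algebraMap B N)
      (by rw [IsScalarTower.algebraMap_eq B L N]; exact (algebraMap L N).injective.comp (IsFractionRing.injective B L))
    obtain ⟨x, s, -, hxv, hs⟩ := key N W hW
    have hli := linearIndependent₂ (L := L) hW hp hπB x s hxv hd hs
    have hsurj : Function.Surjective (Ideal.Quotient.mkₐ M P) := Ideal.Quotient.mk_surjective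
    haveI : FiniteDimensional M N := Module.Finite.of_surjective (Ideal.Quotient.mkₐ M P).toLinearMap hsurj
    haveI : FiniteDimensional L N := Module.Finite.trans M N
    have hge : p ≤ Module.finrank M N := by
      have h1 := hli.fintype_card_le_finrank
      rw [Fintype.card_prod, Fintype.card_fin, ← Module.finrank_mul_finrank L M N, hdeg] at h1
      exact Nat.le_of_mul_le_mul_left h1 hp.pos
    have hdim : Module.finrank M N = Module.finrank M (M ⊗[K] K₁) := by
      refine le_antisymm ((Ideal.Quotient.mkₐ M P).toLinearMap.finrank_le_finrank_of_surjective hsurj) ?_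
      rw [Module.finrank_baseChange, hdK]
      exact hge
    have hbij : Function.Bijective (Ideal.Quotient.mkₐ M P) :=
      ⟨(LinearMap.injective_iff_surjective_of_finrank_eq_finrank hdim.symm
        (f := (Ideal.Quotient.mkₐ M P).toLinearMap)).2 hsurj, hsurj⟩
    exact (AlgEquiv.ofBijective _ hbij).toMulEquiv.isField (Field.toIsField N)
  · intro N _ _ _ _ _ _ hgen W hWC
    letI : Algebra L N := ((algebraMap M N).comp (algebraMap L M)).toAlgebra
    haveI : IsScalarTower L M N := IsScalarTower.of_algebraMap_eq fun _ => rfl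
    haveI : IsScalarTower K L N := IsScalarTower.of_algebraMap_eq fun a => by
      show _ = algebraMap M N (algebraMap L M (algebraMap K L a))
      rw [← IsScalarTower.algebraMap_apply K L M, ← IsScalarTower.algebraMap_apply K M N]
    letI : Algebra B N := ((algebraMap L N).comp (algebraMap B L)).toAlgebra
    haveI : IsScalarTower B L N := IsScalarTower.of_algebraMap_eq fun _ => rfl
    have hW : EtRam.Dominates B (algebraMap B N) W := by
      have h1 : ∀ b, algebraMap B N b = ((algebraMap M N).comp (algebraMap C M)) (algebraMap B C b) := fun b => by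
        show algebraMap M N (algebraMap L M (algebraMap B L b)) = _
        rw [← IsScalarTower.algebraMap_apply B L M, RingHom.comp_apply, ← IsScalarTower.algebraMap_apply B C M]
      exact ⟨fun b => h1 b ▸ hWC.1 _, fun b hb => h1 b ▸ hWC.2 _ (map_nonunit _ b hb)⟩
    obtain ⟨x, s, hx, hxv, hs⟩ := key N W hW
    have hli := linearIndependent₂ (L := L) hW hp hπB x s hxv hd hs
    have hspan : ⊤ ≤ Submodule.span L (Set.range fun ij : Fin p × Fin p => x ^ (ij.1 : ℕ) * s ^ (ij.2 : ℕ)) := by
      let φ : M ⊗[K] K₁ →ₐ[M] N := Algebra.TensorProduct.lift (Algebra.ofId M N) (IsScalarTower.toAlgHom K K₁ N)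
        fun _ _ => mul_comm _ _
      have hsj : Function.Surjective φ := by
        rw [← AlgHom.range_eq_top, eq_top_iff, ← hgen, Algebra.adjoin_le_iff]
        rintro _ ⟨z, rfl⟩
        exact ⟨1 ⊗ₜ z, (Algebra.TensorProduct.lift_tmul _ _ _ _ _).trans (by rw [map_one, one_mul]; rfl)⟩
      haveI : FiniteDimensional M N := Module.Finite.of_surjective φ.toLinearMap hsj
      haveI : FiniteDimensional L N := Module.Finite.trans M N
      have hle := φ.toLinearMap.finrank_le_finrank_of_surjective hsj
      rw [Module.finrank_baseChange, hdK] at hle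
      refine (hli.span_eq_top_of_card_eq_finrank' (le_antisymm hli.fintype_card_le_finrank ?_)).ge
      rw [Fintype.card_prod, Fintype.card_fin, ← Module.finrank_mul_finrank L M N, hdeg]
      exact Nat.mul_le_mul_left p hle
    letI : Algebra (W.comap (algebraMap K₁ N)) W := (EtRam.inclOfComap W (algebraMap K₁ N)).toAlgebra
    show (maximalIdeal _).map (algebraMap (W.comap (algebraMap K₁ N)) W) = maximalIdeal W
    have hJle : (maximalIdeal _).map (algebraMap (W.comap (algebraMap K₁ N)) W) ≤ maximalIdeal W :=
      Ideal.map_le_iff_le_comap.2 fun z hz => map_nonunit (EtRam.inclOfComap W (algebraMap K₁ N)) z hz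
    refine le_antisymm hJle fun y hy => ?_
    let J : Ideal W := (maximalIdeal _).map (algebraMap (W.comap (algebraMap K₁ N)) W)
    have hπlt : W.valuation (algebraMap B N πB) < 1 := hW.2 _ (hπB.maximalIdeal_eq ▸ Ideal.mem_span_singleton_self πB)
    have hxlt : W.valuation x < 1 := by
      by_contra hge
      exact hπlt.not_ge (hxv ▸ one_le_pow₀ (not_lt.1 hge))
    have hxW : x ∈ W := (W.valuation_le_one_iff x).1 hxlt.le
    let xU : W.comap (algebraMap K₁ N) := ⟨x₁, by show algebraMap K₁ N x₁ ∈ W; rw [← hx]; exact hxW⟩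
    let xW : W := ⟨x, hxW⟩
    have hxJ : xW ∈ J := by
      have h1 : EtRam.inclOfComap W (algebraMap K₁ N) xU = xW := Subtype.ext hx.symm
      rw [← h1]
      refine Ideal.mem_map_of_mem _ ((IsLocalRing.mem_maximalIdeal _).2 fun hu => ?_)
      have h2 := hu.map (EtRam.inclOfComap W (algebraMap K₁ N))
      rw [h1] at h2
      exact hxlt.ne ((W.valuation_eq_one_iff xW).1 h2)
    have hπJ : (⟨_, hW.1 πB⟩ : W) ∈ J := by
      have hxp0 : x ^ p ≠ 0 := fun h0 => by
        have h1 := congrArg W.valuation h0
        rw [map_pow, hxv, map_zero, map_eq_zero] at h1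
        exact hπB.ne_zero (IsFractionRing.injective B L ((algebraMap L N).injective (by
          simpa [← IsScalarTower.algebraMap_apply] using h1)))
      have hq : algebraMap B N πB / x ^ p ∈ W := (W.valuation_le_one_iff _).1 (by
        rw [map_div₀, map_pow, hxv, div_self ((map_ne_zero W.valuation).2 fun h0 => hxp0 (by
          have h1 := congrArg W.valuation h0
          rw [← hxv, map_zero] at h1
          rw [← map_eq_zero W.valuation, map_pow, h1]))])
      rw [show (⟨_, hW.1 πB⟩ : W) = ⟨_, hq⟩ * xW ^ p from Subtype.ext (div_mul_cancel₀ _ hxp0).symm]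
      exact J.mul_mem_left _ (Ideal.pow_mem_of_mem _ hxJ p hp.pos)
    obtain ⟨r, hr⟩ := (Submodule.mem_span_range_iff_exists_fun L).1 (hspan (Submodule.mem_top (x := (y : N))))
    rw [Fintype.sum_prod_type] at hr
    choose b hb using coeff_mem₂ hW hp hπB x s hxv hd hs (fun i j => r (i, j)) (by rw [hr]; exact y.2)
    have hdW : s ^ p ∈ W := by
      have h1 : s ^ p - algebraMap B N d ∈ W := (W.valuation_le_one_iff _).1 hs.le
      simpa using W.add_mem _ _ h1 (hW.1 d)
    have hsW : s ∈ W := by
      refine (W.valuation_le_one_iff s).1 (not_lt.1 fun hlt => ?_)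
      exact ((W.valuation_le_one_iff _).2 hdW).not_gt (by rw [map_pow]; exact one_lt_pow₀ hlt hp.ne_zero)
    let sW : W := ⟨s, hsW⟩
    let bW : B → W := fun e => ⟨_, hW.1 e⟩
    have hysum : y = ∑ i, (∑ j, bW (b i j) * sW ^ (j : ℕ)) * xW ^ (i : ℕ) := Subtype.ext (by
      rw [← hr]
      push_cast
      refine Finset.sum_congr rfl fun i _ => ?_
      rw [Finset.sum_mul]
      refine Finset.sum_congr rfl fun j _ => ?_
      rw [← hb, Algebra.smul_def, ← IsScalarTower.algebraMap_apply]
      simp only [bW, sW, xW]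
      ring)
    have hrest : ∑ i ∈ Finset.univ.erase (⟨0, hp.pos⟩ : Fin p), (∑ j, bW (b i j) * sW ^ (j : ℕ)) * xW ^ (i : ℕ) ∈ J :=
      Ideal.sum_mem _ fun i hi => J.mul_mem_left _ (Ideal.pow_mem_of_mem _ hxJ _
        (Nat.pos_of_ne_zero fun h0 => (Finset.mem_erase.1 hi).1 (Fin.ext h0)))
    rw [← Finset.add_sum_erase _ _ (Finset.mem_univ (⟨0, hp.pos⟩ : Fin p))] at hysum
    simp only [pow_zero, mul_one] at hysum
    have hinner : ∑ j, bW (b ⟨0, hp.pos⟩ j) * sW ^ (j : ℕ) ∈ maximalIdeal W := by
      have h2 : y - ∑ i ∈ Finset.univ.erase (⟨0, hp.pos⟩ : Fin p), (∑ j, bW (b i j) * sW ^ (j : ℕ)) * xW ^ (i : ℕ) ∈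
          maximalIdeal W := sub_mem hy (hJle hrest)
      rwa [hysum, add_sub_cancel_right] at h2
    show y ∈ J
    rw [hysum]
    refine J.add_mem (Ideal.sum_mem _ fun j _ => J.mul_mem_right _ ?_) hrest
    have hj : b ⟨0, hp.pos⟩ j ∈ maximalIdeal B := by
      by_contra hnj
      have h3 := valuation_inner hW hp s hd hs (b ⟨0, hp.pos⟩) j hnj
      have h4 := (W.valuation_lt_one_iff _).1 hinner
      push_cast at h4
      exact h4.ne h3
    rw [hπB.maximalIdeal_eq, Ideal.mem_span_singleton'] at hj
    obtain ⟨e', he'⟩ := hj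
    rw [show bW (b ⟨0, hp.pos⟩ j) = bW e' * ⟨_, hW.1 πB⟩ from Subtype.ext (by
      show algebraMap B N (b ⟨0, hp.pos⟩ j) = algebraMap B N e' * algebraMap B N πB
      rw [← he', map_mul])]
    exact J.mul_mem_left _ hπJ

end Groth.Agent.TotRam
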