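import Groth.Agent.TotRam.Main
import Groth.Agent.Nagata.Reduced
import Groth.Prelude.Def_Found
import Mathlib

/-!
# Coefficients in a mixed ramified / inseparable residue basis, and approximation by `B ^ p [π]`
-/

set_option autoImplicit false
set_option linter.style.haveILetI false
set_option linter.unusedSectionVars false
set_option maxHeartbeats 1000000

universe u

open IsLocalRing Polynomial

namespace Groth.Agent.TotRam

variable {B L N : Type u} [CommRing B] [IsDomain B] [IsDiscreteValuationRing B] [Field L] [Algebra B L]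
  [IsFractionRing B L] [Field N] [Algebra L N] [Algebra B N] [IsScalarTower B L N]
  {W : ValuationSubring N} (hW : EtRam.Dominates B (algebraMap B N) W)

include hW in
/-- An element of the fraction field lying in a dominating valuation ring lies in the ring. -/
theorem exists_of_valuation_le (r : L) (h : W.valuation (algebraMap L N r) ≤ 1) : ∃ b : B, algebraMap B L b = r := by
  rcases ValuationRing.isInteger_or_isInteger B r with hr | hr
  · exact hr
  · obtain ⟨b, hb⟩ := hr
    rcases eq_or_ne r 0 with rfl | hr0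
    · exact ⟨0, map_zero _⟩
    rcases em (IsUnit b) with ⟨u, rfl⟩ | hnu
    · refine ⟨↑u⁻¹, ?_⟩
      rw [map_units_inv, hb, inv_inv]
    · have h1 := hW.2 b hnu
      rw [IsScalarTower.algebraMap_apply B L N, hb, map_inv₀, map_inv₀] at h1
      exact absurd h (inv_lt_one₀ (zero_lt_iff.2 ((map_ne_zero W.valuation).2
        ((_root_.map_ne_zero _).2 hr0)))|>.1 h1).not_ge

variable {p : ℕ} (hp : p.Prime) {π : B} (hπ : Irreducible π) (x s : N)
  (hxπ : W.valuation x ^ p = W.valuation (algebraMap B N π))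
  {d : B} (hd : ∀ e : B, d - e ^ p ∉ maximalIdeal B)
  (hs : W.valuation (s ^ p - algebraMap B N d) < 1)

include hW hd hs hp in
theorem valuation_inner (a : Fin p → B) (j₀ : Fin p) (ha : a j₀ ∉ maximalIdeal B) :
    W.valuation (∑ j, algebraMap B N (a j) * s ^ (j : ℕ)) = 1 := by
  classical
  have hdW : algebraMap B N d ∈ W := hW.1 d
  have hsp : s ^ p ∈ W := by
    have h1 : s ^ p - algebraMap B N d ∈ W := (W.valuation_le_one_iff _).1 hs.le
    simpa using W.add_mem _ _ h1 hdW
  have hsW : s ∈ W := by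
    refine (W.valuation_le_one_iff s).1 ?_
    by_contra hlt
    have := (W.valuation_le_one_iff _).2 hsp
    rw [map_pow] at this
    exact this.not_gt (one_lt_pow₀ (not_le.1 hlt) hp.ne_zero)
  letI : Algebra B W := ((algebraMap B N).codRestrict W.toSubring hW.1).toAlgebra
  haveI : IsLocalHom (algebraMap B W) := ⟨fun b hb => by
    by_contra hnu
    exact (hW.2 b hnu).ne ((W.valuation_eq_one_iff _).1 hb)⟩
  let y : W := ∑ j, algebraMap B W (a j) * (⟨s, hsW⟩ : W) ^ (j : ℕ)
  have hy : (y : N) = ∑ j, algebraMap B N (a j) * s ^ (j : ℕ) := by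
    simp only [y]; push_cast; rfl
  rw [← hy]
  refine (W.valuation_eq_one_iff y).1 (notMem_maximalIdeal.1 fun hym => ?_)
  let k := ResidueField B
  let k' := ResidueField W
  let g : k[X] := ∑ j, C (residue B (a j)) * X ^ (j : ℕ)
  have hg0 : g ≠ 0 := fun h => ha (by
    have h1 := congrArg (fun g : k[X] => g.coeff j₀) h
    simp only [g, finset_sum_coeff, coeff_C_mul_X_pow, coeff_zero] at h1
    rw [Finset.sum_eq_single j₀ (fun j _ hj => if_neg fun h => hj (Fin.ext h.symm))
      (fun h => absurd (Finset.mem_univ _) h), if_pos rfl, residue_eq_zero_iff] at h1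
    exact h1)
  have hgdeg : g.degree < p := by
    refine (degree_sum_le _ _).trans_lt ((Finset.sup_lt_iff (WithBot.bot_lt_coe p)).2 fun j _ => ?_)
    exact (degree_C_mul_X_pow_le _ _).trans_lt (WithBot.coe_lt_coe.2 j.2)
  let sb : k' := residue W ⟨s, hsW⟩
  have hroot : aeval sb g = 0 := by
    rw [show aeval sb g = residue W y by
      simp only [g, y, map_sum, map_mul, map_pow, aeval_C, aeval_X, sb]
      rfl]
    exact (residue_eq_zero_iff y).2 hym
  have hirr : Irreducible (X ^ p - C (residue B d) : k[X]) := X_pow_sub_C_irreducible_of_prime hp fun e he => by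
    obtain ⟨e, rfl⟩ := residue_surjective e
    refine hd e ?_
    rw [← residue_eq_zero_iff, map_sub, map_pow, he, sub_self]
  have hsb : aeval sb (X ^ p - C (residue B d) : k[X]) = 0 := by
    simp only [map_sub, map_pow, aeval_X, aeval_C, sb]
    rw [show algebraMap k k' (residue B d) = residue W (algebraMap B W d) from rfl, ← map_pow, ← map_sub,
      residue_eq_zero_iff, W.valuation_lt_one_iff]
    push_cast
    exact hs
  have h2 := minpoly.eq_of_irreducible_of_monic hirr hsb (monic_X_pow_sub_C _ hp.ne_zero)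
  have h3 := minpoly.degree_le_of_ne_zero k sb hg0 hroot
  rw [← h2, degree_X_pow_sub_C hp.pos] at h3
  exact h3.not_gt hgdeg

include hW hp hπ hxπ hd hs in
/-- Coefficients of elements of `W` in the family `x ^ i * s ^ j` are integral. -/
theorem coeff_mem₂ (r : Fin p → Fin p → L)
    (hy : ∑ i, ∑ j, r i j • (x ^ (i : ℕ) * s ^ (j : ℕ)) ∈ W) : ∀ i j, ∃ b : B, algebraMap B L b = r i j := by
  classical
  haveI : Nonempty (Fin p) := ⟨⟨0, hp.pos⟩⟩
  let v : L → _ := fun l => W.valuation (algebraMap L N l)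
  choose jm hjm using fun i => Finset.exists_max_image (Finset.univ : Finset (Fin p)) (fun j => v (r i j)) Finset.univ_nonempty
  let lam : Fin p → L := fun i => r i (jm i)
  have hsmall : ∀ i j, ∃ b : B, algebraMap B L b * lam i = r i j := by
    intro i j
    rcases eq_or_ne (lam i) 0 with h0 | h0
    · refine ⟨0, ?_⟩
      have h := (hjm i).2 j (Finset.mem_univ j)
      rw [show r i (jm i) = 0 from h0] at h
      simp only [v, map_zero, le_zero_iff, map_eq_zero] at h
      rw [map_zero, zero_mul, h]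
    · obtain ⟨b, hb⟩ := exists_of_valuation_le hW (r i j / lam i) (by
        rw [map_div₀, map_div₀]
        exact div_le_one_of_le₀ ((hjm i).2 j (Finset.mem_univ j)) zero_le)
      exact ⟨b, by rw [hb, div_mul_cancel₀ _ h0]⟩
  choose a ha using hsmall
  let inner : Fin p → N := fun i => ∑ j, algebraMap B N (a i j) * s ^ (j : ℕ)
  have hin : ∀ i, lam i ≠ 0 → W.valuation (inner i) = 1 := fun i hi =>
    valuation_inner hW hp s hd hs (a i) (jm i) (by
      have h1 : algebraMap B L (a i (jm i)) = 1 := mul_right_cancel₀ hi ((ha i (jm i)).trans (one_mul _).symm)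
      rw [IsFractionRing.injective B L (h1.trans (map_one _).symm)]
      exact fun h => (maximalIdeal.isMaximal B).ne_top ((Ideal.eq_top_iff_one _).2 h))
  have hsum : ∑ i, lam i • (inner i * x ^ (i : ℕ)) = ∑ i, ∑ j, r i j • (x ^ (i : ℕ) * s ^ (j : ℕ)) := by
    refine Finset.sum_congr rfl fun i _ => ?_
    simp only [inner, Finset.sum_mul, Finset.smul_sum]
    refine Finset.sum_congr rfl fun j _ => ?_
    rw [← ha i j, Algebra.smul_def, Algebra.smul_def, map_mul, ← IsScalarTower.algebraMap_apply]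
    ring
  have h := coeff_mem_unit hπ x W hW hxπ lam inner hin (hsum ▸ hy)
  intro i j
  obtain ⟨c, hc⟩ := h i
  exact ⟨a i j * c, by rw [map_mul, hc, ha]⟩

include hW hp hπ hxπ hd hs in
theorem linearIndependent₂ :
    LinearIndependent L (fun ij : Fin p × Fin p => x ^ (ij.1 : ℕ) * s ^ (ij.2 : ℕ)) := by
  classical
  refine Fintype.linearIndependent_iff.2 fun r hr ij => ?_
  by_contra hri
  obtain ⟨b, hb⟩ := coeff_mem₂ hW hp hπ x s hxπ hd hs
    (fun i j => (r ij * algebraMap B L π)⁻¹ * r (i, j)) (by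
    rw [← Fintype.sum_prod_type' (f := fun i j => ((r ij * algebraMap B L π)⁻¹ * r (i, j)) • (x ^ (i : ℕ) * s ^ (j : ℕ)))]
    simp only [mul_smul]
    rw [← Finset.smul_sum]
    erw [hr]
    rw [smul_zero]
    exact W.zero_mem) ij.1 ij.2
  have hπ0 : algebraMap B L π ≠ 0 := (map_ne_zero_iff _ (IsFractionRing.injective B L)).2 hπ.ne_zero
  refine hπ.not_isUnit (IsUnit.of_mul_eq_one b (IsFractionRing.injective B L ?_))
  rw [map_mul, hb, map_one]
  field_simp

/-- A best approximation by `B ^ p [π]`. -/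
theorem exists_approx [CharP B p] {π : B} (hπ : Irreducible π) (hp : p.Prime) (b : B)
    (hb : ∃ m, ∀ c : Fin p → B, ¬ π ^ m ∣ b - ∑ i : Fin p, π ^ (i : ℕ) * c i ^ p) :
    ∃ (m : ℕ) (c : Fin p → B) (d : B), b = (∑ i : Fin p, π ^ (i : ℕ) * c i ^ p) + π ^ m * d ∧
      ∀ e : B, d - e ^ p ∉ maximalIdeal B := by
  classical
  haveI := Fact.mk hp
  have h0 : 0 < Nat.find hb := by
    by_contra h
    have := Nat.find_spec hb 0
    rw [show Nat.find hb = 0 by omega, pow_zero] at this
    exact this (one_dvd _)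
  obtain ⟨m, hm⟩ : ∃ m, Nat.find hb = m + 1 := ⟨_, (Nat.succ_pred_eq_of_pos h0).symm⟩
  obtain ⟨c, d, hd⟩ : ∃ (c : Fin p → B) (d : B), b - ∑ i : Fin p, π ^ (i : ℕ) * c i ^ p = π ^ m * d := by
    have := Nat.find_min hb (show m < Nat.find hb by omega)
    push Not at this
    exact this
  refine ⟨m, c, d, by rw [← hd]; ring, fun e he => ?_⟩
  rw [hπ.maximalIdeal_eq, Ideal.mem_span_singleton] at he
  obtain ⟨f, hf⟩ := he
  let i₀ : Fin p := ⟨m % p, Nat.mod_lt _ hp.pos⟩
  refine Nat.find_spec hb (Function.update c i₀ (c i₀ + π ^ (m / p) * e)) ⟨f, ?_⟩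
  rw [hm]
  have hsum : ∑ i : Fin p, π ^ (i : ℕ) * Function.update c i₀ (c i₀ + π ^ (m / p) * e) i ^ p =
      (∑ i : Fin p, π ^ (i : ℕ) * c i ^ p) + π ^ m * e ^ p := by
    rw [← Finset.add_sum_erase _ _ (Finset.mem_univ i₀), ← Finset.add_sum_erase _ _ (Finset.mem_univ i₀),
      Function.update_self, Finset.sum_congr rfl fun i hi => by rw [Function.update_of_ne (Finset.mem_erase.1 hi).1],
      add_pow_char, mul_pow, ← pow_mul]
    have : π ^ m = π ^ (m % p) * π ^ (m / p * p) := by rw [← pow_add, mul_comm, Nat.mod_add_div]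
    rw [this]
    ring
  rw [hsum, ← sub_sub, hd, pow_succ]
  linear_combination π ^ m * hf

include hp in
/-- Without a `p`-th root of the uniformizer, the approximations are bounded (Nagata case). -/
theorem exists_bound {M : Type u} [Field M] [Algebra L M] [Algebra B M] [IsScalarTower B L M]
    [FiniteDimensional L M] [CharP M p] (hB : CAlg.IsNagata B) {π : B} (hπ : Irreducible π) (b : B) (ρ : M)
    (hρ : ρ ^ p = algebraMap B M (π * b)) (hρL : ρ ∉ (algebraMap L M).range)
    (hno : ∀ z : M, z ^ p ≠ algebraMap B M π) :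
    ∃ m, ∀ c : Fin p → B, ¬ π ^ m ∣ b - ∑ i : Fin p, π ^ (i : ℕ) * c i ^ p := by
  classical
  haveI := Fact.mk hp
  by_contra hall
  push Not at hall
  let Ω := AlgebraicClosure M
  haveI : CharP Ω p := charP_of_injective_algebraMap (algebraMap M Ω).injective p
  obtain ⟨ζ, hζ⟩ := IsAlgClosed.exists_pow_nat_eq (algebraMap B Ω π) hp.pos
  have hinjB : Function.Injective (algebraMap B Ω) := by
    rw [IsScalarTower.algebraMap_eq B L Ω]
    exact (algebraMap L Ω).injective.comp (IsFractionRing.injective B L)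
  have hπ0 : algebraMap B Ω π ≠ 0 := (map_ne_zero_iff _ hinjB).2 hπ.ne_zero
  have hζ0 : ζ ≠ 0 := fun h => hπ0 (by rw [← hζ, h, zero_pow hp.ne_zero])
  let ρ' : Ω := algebraMap M Ω ρ
  let τ : Ω := ρ' / ζ
  have hτ : τ ^ p = algebraMap B Ω b := by
    rw [div_pow, hζ, ← map_pow, hρ, ← IsScalarTower.algebraMap_apply, map_mul, mul_div_cancel_left₀ _ hπ0]
  let E := IntermediateField.adjoin L ({τ, ζ} : Set Ω)
  haveI : FiniteDimensional L E := IntermediateField.finiteDimensional_adjoin fun y _ => Algebra.IsIntegral.isIntegral y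
  haveI : Algebra.EssFiniteType B L := Algebra.EssFiniteType.of_isLocalization L (nonZeroDivisors B)
  haveI : Algebra.EssFiniteType B E := Algebra.EssFiniteType.comp B L E
  haveI : IsNoetherianRing B := hB.1
  haveI : IsScalarTower B E Ω := IsScalarTower.of_algebraMap_eq fun x => by
    rw [IsScalarTower.algebraMap_apply B L E, ← IsScalarTower.algebraMap_apply L E Ω, ← IsScalarTower.algebraMap_apply B L Ω]
  haveI : Module.Finite B (integralClosure B E) := Nagata.finite_closure_reduced hB
  let Cl := integralClosure B E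
  haveI : IsScalarTower B Cl Ω := IsScalarTower.of_algebraMap_eq fun x => IsScalarTower.algebraMap_apply B E Ω x
  let τC : Cl := ⟨⟨τ, IntermediateField.subset_adjoin _ _ (by simp)⟩, X ^ p - C b, monic_X_pow_sub_C b hp.ne_zero,
    Subtype.ext (by
      show ((Polynomial.aeval (⟨τ, _⟩ : E) (X ^ p - Polynomial.C b) : E) : Ω) = 0
      simp only [map_sub, map_pow, aeval_X, aeval_C]
      push_cast
      rw [hτ]; exact sub_eq_zero.2 (IsScalarTower.algebraMap_apply B E Ω b))⟩
  let ζC : Cl := ⟨⟨ζ, IntermediateField.subset_adjoin _ _ (by simp)⟩, X ^ p - C π, monic_X_pow_sub_C π hp.ne_zero,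
    Subtype.ext (by
      show ((Polynomial.aeval (⟨ζ, _⟩ : E) (X ^ p - Polynomial.C π) : E) : Ω) = 0
      simp only [map_sub, map_pow, aeval_X, aeval_C]
      push_cast
      rw [hζ]; exact sub_eq_zero.2 (IsScalarTower.algebraMap_apply B E Ω π))⟩
  have hval : ∀ z : Cl, algebraMap Cl Ω z = ((z : E) : Ω) := fun z => rfl
  let Nm : Submodule B Cl := Submodule.span B (Set.range fun i : Fin p => ζC ^ (i : ℕ))
  have hmem : τC ∈ Nm := by
    have h : Submodule.mkQ Nm τC ∈ (⨅ j : ℕ, maximalIdeal B ^ j • (⊤ : Submodule B (Cl ⧸ Nm))) := by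
      rw [Submodule.mem_iInf]
      intro j
      obtain ⟨c, d, hd⟩ := hall (p * j)
      obtain ⟨w, hw⟩ : ∃ w : Cl, τC - ∑ i, c i • ζC ^ (i : ℕ) = π ^ j • w := by
        let num : Ω := τ - ∑ i, algebraMap B Ω (c i) * ζ ^ (i : ℕ)
        have hπj : algebraMap B E (π ^ j) ≠ 0 := by
          rw [IsScalarTower.algebraMap_apply B L E]
          exact (_root_.map_ne_zero _).2 ((map_ne_zero_iff _ (IsFractionRing.injective B L)).2 (pow_ne_zero _ hπ.ne_zero))
        let wE : E := ((τC : E) - ∑ i, algebraMap B E (c i) * (ζC : E) ^ (i : ℕ)) / algebraMap B E (π ^ j)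
        have hwp : wE ^ p = algebraMap B E d := by
          apply Subtype.val_injective (p := fun y => y ∈ E)
          show algebraMap E Ω (wE ^ p) = algebraMap E Ω (algebraMap B E d)
          simp only [wE, map_pow, map_div₀, map_sub, map_sum, map_mul, ← IsScalarTower.algebraMap_apply B E Ω]
          show ((τ - ∑ i, algebraMap B Ω (c i) * ζ ^ (i : ℕ)) / _) ^ p = _
          rw [div_pow, sub_pow_char, sum_pow_char, hτ, ← pow_mul, div_eq_iff (pow_ne_zero _ hπ0), mul_comm j]
          have h1 : ∀ i : Fin p, (algebraMap B Ω (c i) * ζ ^ (i : ℕ)) ^ p =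
              algebraMap B Ω (π ^ (i : ℕ) * c i ^ p) := fun i => by
            rw [mul_pow, ← pow_mul, mul_comm (i : ℕ), pow_mul, hζ, map_mul, map_pow, map_pow]; ring
          rw [Finset.sum_congr rfl fun i _ => h1 i, ← map_sum, ← map_sub, hd, map_mul, map_pow]
          ring
        refine ⟨⟨wE, X ^ p - C d, monic_X_pow_sub_C d hp.ne_zero, by
          simp only [eval₂_sub, eval₂_X_pow, eval₂_C, hwp, sub_self]⟩, Subtype.ext ?_⟩
        simp only [AddSubgroupClass.coe_sub, AddSubmonoidClass.coe_finsetSum, Subalgebra.coe_smul,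
          SubmonoidClass.coe_pow]
        simp only [Algebra.smul_def, wE]
        exact (mul_div_cancel₀ _ hπj).symm
      rw [show Submodule.mkQ Nm τC = π ^ j • Submodule.mkQ Nm w by
        rw [← map_smul, ← hw, map_sub, eq_comm, sub_eq_self, Submodule.mkQ_apply, Submodule.Quotient.mk_eq_zero]
        exact Submodule.sum_mem _ fun i _ => Submodule.smul_mem _ _ (Submodule.subset_span ⟨i, rfl⟩)]
      exact Submodule.smul_mem_smul (Ideal.pow_mem_pow (hπ.maximalIdeal_eq ▸ Ideal.mem_span_singleton_self π) j)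
        Submodule.mem_top
    rw [Ideal.iInf_pow_smul_eq_bot_of_isLocalRing _ (maximalIdeal.isMaximal B).ne_top, Submodule.mem_bot] at h
    exact (Submodule.Quotient.mk_eq_zero _).1 h
  obtain ⟨a, ha⟩ := (Submodule.mem_span_range_iff_exists_fun B).1 hmem
  have hτa : ∑ i, algebraMap B Ω (a i) * ζ ^ (i : ℕ) = τ := by
    have h := congrArg (algebraMap Cl Ω) ha
    simp only [Algebra.smul_def, map_sum, map_mul, map_pow, ← IsScalarTower.algebraMap_apply B Cl Ω] at h
    exact h
  -- contradiction: `ρ = τ ζ` lies in `L`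
  have hζdeg : minpoly M ζ = X ^ p - Polynomial.C (algebraMap B M π) :=
    (minpoly.eq_of_irreducible_of_monic (X_pow_sub_C_irreducible_of_prime hp hno)
      (by simp [hζ, ← IsScalarTower.algebraMap_apply]) (monic_X_pow_sub_C _ hp.ne_zero)).symm
  obtain ⟨q, rfl⟩ : ∃ q, p = q + 1 := ⟨p - 1, by have := hp.pos; omega⟩
  let g : M[X] := (∑ i : Fin q, Polynomial.C (algebraMap B M (a i.castSucc)) * X ^ ((i : ℕ) + 1)) +
    Polynomial.C (algebraMap B M (a (Fin.last q) * π) - ρ)
  have hg : aeval ζ g = 0 := by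
    simp only [g, map_add, map_sum, map_mul, map_sub, map_pow, aeval_C, aeval_X,
      ← IsScalarTower.algebraMap_apply B M Ω]
    have h1 : (∑ i : Fin (q + 1), algebraMap B Ω (a i) * ζ ^ (i : ℕ)) * ζ = ρ' := by
      rw [hτa, div_mul_cancel₀ _ hζ0]
    rw [Fin.sum_univ_castSucc, add_mul, Finset.sum_mul, Fin.val_last] at h1
    simp only [Fin.val_castSucc, mul_assoc, ← pow_succ] at h1
    rw [hζ] at h1
    linear_combination h1
  have hg0 : g = 0 := by
    refine Polynomial.eq_zero_of_dvd_of_degree_lt (minpoly.dvd M ζ hg) ?_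
    rw [hζdeg, degree_X_pow_sub_C hp.pos]
    refine (degree_add_le _ _).trans_lt (max_lt ?_ (degree_C_le.trans_lt (by exact_mod_cast hp.pos)))
    refine (degree_sum_le _ _).trans_lt ((Finset.sup_lt_iff (WithBot.bot_lt_coe _)).2 fun i _ => ?_)
    exact (degree_C_mul_X_pow_le _ _).trans_lt (by have := i.2; exact_mod_cast (by omega : (i : ℕ) + 1 < q + 1))
  have h0 := congrArg (fun g : M[X] => g.coeff 0) hg0
  simp only [g, coeff_add, finset_sum_coeff, coeff_C_mul_X_pow, coeff_C_zero, coeff_zero,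
    Nat.right_eq_add, Finset.sum_ite_irrel] at h0
  refine hρL ⟨algebraMap B L (a (Fin.last q) * π), ?_⟩
  rw [← IsScalarTower.algebraMap_apply]
  simpa [sub_eq_zero] using h0

end Groth.Agent.TotRam
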